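import Mathlib.LinearAlgebra.Semisimple
import Mathlib.LinearAlgebra.Charpoly.ToMatrix
import Mathlib.LinearAlgebra.Charpoly.Basic
import Mathlib.RingTheory.UniqueFactorizationDomain.NormalizedFactors
import Mathlib.RingTheory.Polynomial.UniqueFactorization
import Mathlib.FieldTheory.Minpoly.Field

/-!
# The dimension of the space of intertwiners of two semisimple endomorphisms
-/

universe u v w

set_option backward.isDefEq.respectTransparency false
set_option linter.style.haveILetI false

open Module Polynomial UniqueFactorizationMonoid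
open scoped Classical

namespace Groth.Agent.Intertwine22

variable {K : Type u} [Field K]

section Defs

variable {V : Type v} {W : Type w} [AddCommGroup V] [Module K V] [AddCommGroup W] [Module K W]

/-- The space of intertwiners. -/
noncomputable def inter (π : End K V) (ρ : End K W) : Submodule K (V →ₗ[K] W) :=
  LinearMap.ker (LinearMap.lcomp K W π - LinearMap.llcomp K V W W ρ : (V →ₗ[K] W) →ₗ[K] (V →ₗ[K] W))

theorem mem_inter {π : End K V} {ρ : End K W} {h : V →ₗ[K] W} : h ∈ inter π ρ ↔ ∀ x, h (π x) = ρ (h x) := by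
  rw [inter, LinearMap.mem_ker, LinearMap.sub_apply, sub_eq_zero, LinearMap.ext_iff]
  rfl

theorem inter_aeval {π : End K V} {ρ : End K W} {h : V →ₗ[K] W} (hh : h ∈ inter π ρ) (p : K[X]) (x : V) :
    h (aeval π p x) = aeval ρ p (h x) := by
  induction p using Polynomial.induction_on generalizing x with
  | C a => simp [Module.algebraMap_end_apply]
  | add p q hp hq => simp [hp, hq]
  | monomial n a ih =>
    rw [pow_succ, ← mul_assoc, map_mul (aeval π), map_mul (aeval ρ), Module.End.mul_apply, Module.End.mul_apply,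
      aeval_X, aeval_X, ih, mem_inter.1 hh]

theorem restrict_apply' {π : End K V} {p : Submodule K V} (hp : ∀ x ∈ p, π x ∈ p) (x : p) :
    ((π.restrict hp x : p) : V) = π x := rfl

/-- Splitting the source. -/
theorem finrank_inter_src [FiniteDimensional K V] [FiniteDimensional K W] (π : End K V) (ρ : End K W)
    {p q : Submodule K V} (h : IsCompl p q) (hp : ∀ x ∈ p, π x ∈ p) (hq : ∀ x ∈ q, π x ∈ q) :
    finrank K (inter π ρ) = finrank K (inter (π.restrict hp) ρ) + finrank K (inter (π.restrict hq) ρ) := by
  let e : inter π ρ ≃ₗ[K] inter (π.restrict hp) ρ × inter (π.restrict hq) ρ :=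
    { toFun := fun f => (⟨f.1.comp p.subtype, mem_inter.2 fun x => mem_inter.1 f.2 x⟩,
        ⟨f.1.comp q.subtype, mem_inter.2 fun x => mem_inter.1 f.2 x⟩)
      map_add' := fun f g => rfl
      map_smul' := fun c f => rfl
      invFun := fun f => ⟨LinearMap.ofIsCompl h f.1.1 f.2.1, mem_inter.2 fun x => by
        obtain ⟨a, ha, b, hb, rfl⟩ : ∃ a ∈ p, ∃ b ∈ q, a + b = x :=
          Submodule.mem_sup.1 (by rw [h.sup_eq_top]; trivial)
        lift a to p using ha
        lift b to q using hb
        rw [map_add, map_add, map_add, map_add, ← restrict_apply' hp a, ← restrict_apply' hq b,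
          LinearMap.ofIsCompl_apply_left, LinearMap.ofIsCompl_apply_right, LinearMap.ofIsCompl_apply_left,
          LinearMap.ofIsCompl_apply_right, mem_inter.1 f.1.2 a, mem_inter.1 f.2.2 b]⟩
      left_inv := fun f => Subtype.ext (LinearMap.ofIsCompl_eq h (fun _ => rfl) fun _ => rfl)
      right_inv := fun f => Prod.ext (Subtype.ext (LinearMap.ext fun x => LinearMap.ofIsCompl_apply_left h x))
        (Subtype.ext (LinearMap.ext fun x => LinearMap.ofIsCompl_apply_right h x)) }
  rw [e.finrank_eq, Module.finrank_prod]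

/-- The projection commutes with an endomorphism preserving both summands. -/
theorem projectionOnto_comm (ρ : End K W) {p q : Submodule K W} (h : IsCompl p q) (hp : ∀ x ∈ p, ρ x ∈ p)
    (hq : ∀ x ∈ q, ρ x ∈ q) (x : W) : p.projectionOnto q h (ρ x) = ρ.restrict hp (p.projectionOnto q h x) := by
  obtain ⟨a, ha, b, hb, rfl⟩ : ∃ a ∈ p, ∃ b ∈ q, a + b = x :=
    Submodule.mem_sup.1 (by rw [h.sup_eq_top]; trivial)
  lift a to p using ha
  lift b to q using hb
  rw [map_add, map_add, map_add, ← restrict_apply' hp a, ← restrict_apply' hq b,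
    Submodule.projectionOnto_apply_left, Submodule.projectionOnto_apply_right,
    Submodule.projectionOnto_apply_left, Submodule.projectionOnto_apply_right, add_zero, add_zero]

theorem finrank_prod_sub {M : Type*} {N : Type*} [AddCommGroup M] [Module K M] [AddCommGroup N] [Module K N]
    [FiniteDimensional K M] [FiniteDimensional K N] (A : Submodule K M) (B : Submodule K N) :
    finrank K (A × B) = finrank K A + finrank K B :=
  Module.finrank_prod

/-- Splitting the target. -/
theorem finrank_inter_tgt [FiniteDimensional K V] [FiniteDimensional K W] (π : End K V) (ρ : End K W)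
    {p q : Submodule K W} (h : IsCompl p q) (hp : ∀ x ∈ p, ρ x ∈ p) (hq : ∀ x ∈ q, ρ x ∈ q) :
    finrank K (inter π ρ) = finrank K (inter π (ρ.restrict hp)) + finrank K (inter π (ρ.restrict hq)) := by
  let e : inter π ρ ≃ₗ[K] inter π (ρ.restrict hp) × inter π (ρ.restrict hq) :=
    { toFun := fun f => (⟨(p.projectionOnto q h).comp f.1, mem_inter.2 fun x => by
          rw [LinearMap.comp_apply, LinearMap.comp_apply, mem_inter.1 f.2 x, projectionOnto_comm ρ h hp hq]⟩,
        ⟨(q.projectionOnto p h.symm).comp f.1, mem_inter.2 fun x => by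
          rw [LinearMap.comp_apply, LinearMap.comp_apply, mem_inter.1 f.2 x, projectionOnto_comm ρ h.symm hq hp]⟩)
      map_add' := fun f g => by ext <;> simp
      map_smul' := fun c f => by ext <;> simp
      invFun := fun f => ⟨p.subtype.comp f.1.1 + q.subtype.comp f.2.1, mem_inter.2 fun x => by
        simp only [LinearMap.add_apply, LinearMap.comp_apply, Submodule.subtype_apply, map_add]
        rw [mem_inter.1 f.1.2 x, mem_inter.1 f.2.2 x, restrict_apply', restrict_apply']⟩
      left_inv := fun f => Subtype.ext (LinearMap.ext fun x => by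
        exact Submodule.projection_add_projection_eq_self h (f.1 x))
      right_inv := fun f => by
        refine Prod.ext (Subtype.ext (LinearMap.ext fun x => ?_)) (Subtype.ext (LinearMap.ext fun x => ?_)) <;>
          simp }
  rw [e.finrank_eq]
  exact finrank_prod_sub (M := V →ₗ[K] p) (N := V →ₗ[K] q) _ _

theorem charpoly_compl [FiniteDimensional K V] (π : End K V) {p q : Submodule K V} (h : IsCompl p q)
    (hp : ∀ x ∈ p, π x ∈ p) (hq : ∀ x ∈ q, π x ∈ q) :
    π.charpoly = (π.restrict hp).charpoly * (π.restrict hq).charpoly := by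
  rw [← LinearMap.charpoly_prodMap, ← (Submodule.prodEquivOfIsCompl p q h).charpoly_conj]
  congr 1
  refine LinearMap.ext fun x => ?_
  obtain ⟨⟨a, b⟩, rfl⟩ := (Submodule.prodEquivOfIsCompl p q h).surjective x
  rw [LinearEquiv.conj_apply, LinearMap.comp_apply, LinearMap.comp_apply, LinearEquiv.coe_coe, LinearEquiv.coe_coe,
    LinearEquiv.symm_apply_apply]
  simp [restrict_apply']

/-- No invariant subspaces but the trivial ones. -/
def IsSimpleEnd (π : End K V) : Prop :=
  Nontrivial V ∧ ∀ p : Submodule K V, (∀ x ∈ p, π x ∈ p) → p = ⊥ ∨ p = ⊤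

end Defs

section Simple

variable {V : Type v} [AddCommGroup V] [Module K V] [FiniteDimensional K V] {π : End K V}

theorem aeval_comm_apply (π : End K V) (p : K[X]) (x : V) : aeval π p (π x) = π (aeval π p x) := by
  have h : aeval π p * aeval π (X : K[X]) = aeval π (X : K[X]) * aeval π p := by rw [← map_mul, ← map_mul, mul_comm]
  rw [aeval_X] at h
  exact LinearMap.congr_fun h x

theorem IsSimpleEnd.span_orbit (hs : IsSimpleEnd π) {v : V} (hv : v ≠ 0) (w : V) :
    ∃ p : K[X], aeval π p v = w := by
  let φ : K[X] →ₗ[K] V := (LinearMap.applyₗ v).comp (aeval π).toLinearMap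
  rcases hs.2 (LinearMap.range φ) (by
    rintro _ ⟨p, rfl⟩
    exact ⟨X * p, by simp [φ]⟩) with h | h
  · exact absurd ((Submodule.mem_bot K).1 (h ▸ ⟨1, by simp [φ]⟩ : v ∈ (⊥ : Submodule K V))) hv
  · exact (h ▸ Submodule.mem_top : w ∈ LinearMap.range φ)

theorem IsSimpleEnd.irreducible_charpoly (hs : IsSimpleEnd π) :
    Irreducible π.charpoly := by
  haveI := hs.1
  have hint : IsIntegral K π := Algebra.IsIntegral.isIntegral π
  set μ := minpoly K π
  have hμ0 : μ ≠ 0 := minpoly.ne_zero hint
  have hirr : Irreducible μ := by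
    refine ⟨minpoly.not_isUnit K π, fun a b hab => ?_⟩
    have h0 : aeval π a * aeval π b = 0 := by rw [← map_mul, ← hab, minpoly.aeval]
    rcases hs.2 (LinearMap.ker (aeval π a)) (fun x hx => by
      rw [LinearMap.mem_ker, aeval_comm_apply, LinearMap.mem_ker.1 hx, map_zero]) with h | h
    · have hb : aeval π b = 0 := LinearMap.ext fun x => LinearMap.ker_eq_bot.1 h (by
        rw [← Module.End.mul_apply, h0]; simp)
      refine Or.inl (isUnit_of_dvd_one ?_)
      have hd : μ ∣ b := minpoly.dvd K π hb
      have hb0 : b ≠ 0 := fun e => hμ0 (by rw [hab, e, mul_zero])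
      exact (mul_dvd_mul_iff_right hb0).1 (by rw [one_mul, ← hab]; exact hd)
    · have ha : aeval π a = 0 := LinearMap.ker_eq_top.1 h
      refine Or.inr (isUnit_of_dvd_one ?_)
      have hd : μ ∣ a := minpoly.dvd K π ha
      have ha0 : a ≠ 0 := fun e => hμ0 (by rw [hab, e, zero_mul])
      exact (mul_dvd_mul_iff_left ha0).1 (by rw [mul_one, ← hab]; exact hd)
  have hdvd : μ ∣ π.charpoly := LinearMap.minpoly_dvd_charpoly π
  obtain ⟨v, hv⟩ := exists_ne (0 : V)
  let φ : K[X] →ₗ[K] V := (LinearMap.applyₗ v).comp (aeval π).toLinearMap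
  have hle : finrank K V ≤ μ.natDegree := by
    let ψ : Polynomial.degreeLT K μ.natDegree →ₗ[K] V := φ.comp (Submodule.subtype _)
    have hψ : Function.Surjective ψ := fun w => by
      obtain ⟨p, rfl⟩ := hs.span_orbit hv w
      refine ⟨⟨p %ₘ μ, Polynomial.mem_degreeLT.2 ((degree_modByMonic_lt p (minpoly.monic hint)).trans_eq
        (degree_eq_natDegree hμ0))⟩, ?_⟩
      show aeval π (p %ₘ μ) v = aeval π p v
      rw [aeval_modByMonic_eq_self_of_root (minpoly.aeval K π)]
    haveI : Module.Finite K (Polynomial.degreeLT K μ.natDegree) :=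
      Module.Finite.equiv (Polynomial.degreeLTEquiv K μ.natDegree).symm
    calc finrank K V ≤ finrank K (Polynomial.degreeLT K μ.natDegree) :=
          LinearMap.finrank_le_finrank_of_surjective hψ
      _ = μ.natDegree := by rw [(Polynomial.degreeLTEquiv K μ.natDegree).finrank_eq, Module.finrank_fin_fun]
  have he : μ = π.charpoly := (Polynomial.eq_of_monic_of_dvd_of_natDegree_le (minpoly.monic hint)
    π.charpoly_monic hdvd (by rw [LinearMap.charpoly_natDegree]; exact hle)).symm
  rwa [← he]

theorem IsSimpleEnd.dvd_of_aeval_apply (hs : IsSimpleEnd π) {v : V} (hv : v ≠ 0) {p : K[X]}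
    (hp : aeval π p v = 0) : π.charpoly ∣ p := by
  by_contra hn
  obtain ⟨a, b, hab⟩ := hs.irreducible_charpoly.coprime_iff_not_dvd.2 hn
  apply hv
  have h := congrArg (fun r => aeval π r v) hab
  simp only [map_add, map_mul, LinearMap.add_apply, Module.End.mul_apply, hp, map_zero, add_zero,
    LinearMap.aeval_self_charpoly, LinearMap.zero_apply, map_one, Module.End.one_apply] at h
  exact h.symm

variable {W : Type w} [AddCommGroup W] [Module K W] [FiniteDimensional K W] {ρ : End K W}

theorem finrank_inter_simple (hV : IsSimpleEnd π) (hW : IsSimpleEnd ρ) :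
    finrank K (inter π ρ) = if π.charpoly = ρ.charpoly then π.charpoly.natDegree else 0 := by
  have hinv : ∀ f ∈ inter π ρ, f ≠ 0 → π.charpoly = ρ.charpoly := by
    intro f hf hf0
    have h1 : LinearMap.ker f = ⊥ := (hV.2 _ fun x hx => by
      rw [LinearMap.mem_ker, mem_inter.1 hf, LinearMap.mem_ker.1 hx, map_zero]).resolve_right
      fun h => hf0 (LinearMap.ker_eq_top.1 h)
    have h2 : LinearMap.range f = ⊤ := (hW.2 _ fun x hx => by
      obtain ⟨y, rfl⟩ := hx
      exact ⟨π y, mem_inter.1 hf y⟩).resolve_left fun h => hf0 (LinearMap.range_eq_bot.1 h)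
    let e := LinearEquiv.ofBijective f ⟨LinearMap.ker_eq_bot.1 h1, LinearMap.range_eq_top.1 h2⟩
    rw [← e.charpoly_conj π]
    congr 1
    refine LinearMap.ext fun y => ?_
    obtain ⟨x, rfl⟩ := e.surjective y
    rw [LinearEquiv.conj_apply, LinearMap.comp_apply, LinearMap.comp_apply, LinearEquiv.coe_coe, LinearEquiv.coe_coe,
      LinearEquiv.symm_apply_apply]
    exact mem_inter.1 hf x
  split_ifs with he
  · obtain ⟨v, hv⟩ := @exists_ne V hV.1 0
    let ev : inter π ρ →ₗ[K] W := (LinearMap.applyₗ v).comp (Submodule.subtype _)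
    have hev : Function.Bijective ev := by
      refine ⟨(injective_iff_map_eq_zero ev).2 fun f hf => Subtype.ext (LinearMap.ext fun x => ?_), fun w => ?_⟩
      · obtain ⟨p, rfl⟩ := hV.span_orbit hv x
        rw [inter_aeval f.2, show f.1 v = 0 from hf, map_zero]
        rfl
      · choose r hr using hV.span_orbit hv
        have hwd : ∀ p q : K[X], aeval π p v = aeval π q v → aeval ρ p w = aeval ρ q w := by
          intro p q h
          rw [← sub_eq_zero, ← LinearMap.sub_apply, ← map_sub] at h ⊢
          obtain ⟨c, hc⟩ := hV.dvd_of_aeval_apply hv h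
          rw [hc, he, map_mul, LinearMap.aeval_self_charpoly]
          simp
        refine ⟨⟨{ toFun := fun x => aeval ρ (r x) w, map_add' := fun x y => ?_, map_smul' := fun c x => ?_ },
          mem_inter.2 fun x => ?_⟩, ?_⟩
        · rw [← LinearMap.add_apply, ← map_add]
          exact hwd _ _ (by rw [map_add, LinearMap.add_apply, hr, hr, hr])
        · rw [RingHom.id_apply, ← LinearMap.smul_apply, ← map_smul]
          exact hwd _ _ (by rw [map_smul, LinearMap.smul_apply, hr, hr])
        · show aeval ρ (r (π x)) w = ρ (aeval ρ (r x) w)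
          rw [hwd (r (π x)) (X * r x) (by rw [map_mul, Module.End.mul_apply, aeval_X, hr, hr]), map_mul,
            Module.End.mul_apply, aeval_X]
        · show aeval ρ (r v) w = w
          rw [hwd (r v) 1 (by rw [hr, map_one, Module.End.one_apply]), map_one, Module.End.one_apply]
    rw [(LinearEquiv.ofBijective ev hev).finrank_eq, he, LinearMap.charpoly_natDegree]
  · refine Submodule.finrank_eq_zero.2 ((Submodule.eq_bot_iff _).2 fun f hf => ?_)
    by_contra h
    exact he (hinv f hf h)

end Simple

/-- The number attached to two polynomials. -/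
noncomputable def num (f g : K[X]) : ℕ :=
  ((normalizedFactors f).map fun P => (normalizedFactors g).count P * P.natDegree).sum

theorem num_mul_left {f₁ f₂ : K[X]} (h₁ : f₁ ≠ 0) (h₂ : f₂ ≠ 0) (g : K[X]) :
    num (f₁ * f₂) g = num f₁ g + num f₂ g := by
  rw [num, normalizedFactors_mul h₁ h₂, Multiset.map_add, Multiset.sum_add]; rfl

theorem num_mul_right (f : K[X]) {g₁ g₂ : K[X]} (h₁ : g₁ ≠ 0) (h₂ : g₂ ≠ 0) :
    num f (g₁ * g₂) = num f g₁ + num f g₂ := by
  rw [num, normalizedFactors_mul h₁ h₂, num, num, ← Multiset.sum_map_add]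
  congr 1
  exact Multiset.map_congr rfl fun P _ => by rw [Multiset.count_add, add_mul]

theorem num_irreducible {f g : K[X]} (hf : Irreducible f) (hfm : f.Monic) (hg : Irreducible g) (hgm : g.Monic) :
    num f g = if f = g then f.natDegree else 0 := by
  rw [num, normalizedFactors_irreducible hf, normalizedFactors_irreducible hg, Monic.normalize_eq_self hfm,
    Monic.normalize_eq_self hgm]
  split_ifs with h <;> simp [h]

theorem num_eq_sum (f g : K[X]) : num f g = ∑ P ∈ (normalizedFactors f).toFinset,
    (normalizedFactors f).count P * (normalizedFactors g).count P * P.natDegree := by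
  rw [num, Finset.sum_multiset_map_count]
  exact Finset.sum_congr rfl fun P _ => by rw [smul_eq_mul, mul_assoc]

section Main

variable {V : Type v} [AddCommGroup V] [Module K V] [FiniteDimensional K V]

theorem simple_or_split (π : End K V) (hπ : π.IsSemisimple) :
    Subsingleton V ∨ IsSimpleEnd π ∨ ∃ (p q : Submodule K V) (hp : ∀ x ∈ p, π x ∈ p) (hq : ∀ x ∈ q, π x ∈ q),
      IsCompl p q ∧ finrank K p < finrank K V ∧ finrank K q < finrank K V ∧
      End.IsSemisimple (π.restrict hp) ∧ End.IsSemisimple (π.restrict hq) := by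
  rcases subsingleton_or_nontrivial V with h | h
  · exact Or.inl h
  by_cases hs : IsSimpleEnd π
  · exact Or.inr (Or.inl hs)
  simp only [IsSimpleEnd, h, true_and] at hs
  push Not at hs
  obtain ⟨p, hp, hpb, hpt⟩ := hs
  obtain ⟨q, hq, hc⟩ := End.isSemisimple_iff.1 hπ p hp
  have hqb : q ≠ ⊥ := fun e => hpt (by simpa [e] using hc.sup_eq_top)
  have hqt : q ≠ ⊤ := fun e => hpb (by simpa [e] using hc.inf_eq_bot)
  exact Or.inr (Or.inr ⟨p, q, hp, hq, hc, Submodule.finrank_lt hpt, Submodule.finrank_lt hqt,
    End.IsSemisimple.restrict hp hπ, End.IsSemisimple.restrict hq hπ⟩)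

variable {W : Type w} [AddCommGroup W] [Module K W] [FiniteDimensional K W]

theorem finrank_inter_of_simple {π : End K V} (hV : IsSimpleEnd π) (ρ : End K W) (hρ : ρ.IsSemisimple) :
    finrank K (inter π ρ) = num π.charpoly ρ.charpoly := by
  induction hn : finrank K W using Nat.strong_induction_on generalizing W with
  | h n ih =>
    rcases simple_or_split ρ hρ with h | h | ⟨p, q, hp, hq, hc, hlp, hlq, hsp, hsq⟩
    · haveI := h
      haveI : Subsingleton (V →ₗ[K] W) := ⟨fun a b => LinearMap.ext fun x => Subsingleton.elim _ _⟩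
      rw [ρ.charpoly_monic.natDegree_eq_zero.1 (by rw [LinearMap.charpoly_natDegree, finrank_zero_of_subsingleton]),
        num, normalizedFactors_one, finrank_zero_of_subsingleton]
      simp
    · rw [finrank_inter_simple hV h, num_irreducible hV.irreducible_charpoly π.charpoly_monic h.irreducible_charpoly
        ρ.charpoly_monic]
    · rw [finrank_inter_tgt π ρ hc hp hq, charpoly_compl ρ hc hp hq,
        num_mul_right _ (LinearMap.charpoly_monic _).ne_zero (LinearMap.charpoly_monic _).ne_zero,
        ih _ (hn ▸ hlp) _ hsp rfl, ih _ (hn ▸ hlq) _ hsq rfl]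

/-- The dimension of the intertwiners. -/
theorem finrank_inter (π : End K V) (hπ : π.IsSemisimple) (ρ : End K W) (hρ : ρ.IsSemisimple) :
    finrank K (inter π ρ) = num π.charpoly ρ.charpoly := by
  induction hn : finrank K V using Nat.strong_induction_on generalizing V with
  | h n ih =>
    rcases simple_or_split π hπ with h | h | ⟨p, q, hp, hq, hc, hlp, hlq, hsp, hsq⟩
    · haveI := h
      haveI : Subsingleton (V →ₗ[K] W) := ⟨fun a b => LinearMap.ext fun x => by rw [Subsingleton.elim x 0, map_zero, map_zero]⟩
      rw [π.charpoly_monic.natDegree_eq_zero.1 (by rw [LinearMap.charpoly_natDegree, finrank_zero_of_subsingleton]),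
        num, normalizedFactors_one, finrank_zero_of_subsingleton]
      simp
    · exact finrank_inter_of_simple h ρ hρ
    · rw [finrank_inter_src π ρ hc hp hq, charpoly_compl π hc hp hq,
        num_mul_left (LinearMap.charpoly_monic _).ne_zero (LinearMap.charpoly_monic _).ne_zero,
        ih _ (hn ▸ hlp) _ hsp rfl, ih _ (hn ▸ hlq) _ hsq rfl]

end Main

end Groth.Agent.Intertwine22
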